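import Cfsg.Agent.Lib.Leech.Config2025
import Cfsg.Agent.Lib.Compute.Mathieu.ClassesM22Check
import Cfsg.Agent.Lib.Compute.Mathieu.Groups
import Cfsg.Agent.Lib.Leech.McLTwoA.Data

/-! Kernel checks for the involutions of the stabiliser of two lattice vectors. -/

set_option autoImplicit false
set_option maxRecDepth 100000

namespace Cfsg.Agent.Lib.Leech.McLTwoA

open Cfsg
open Cfsg.Agent.Lib
open Cfsg.Agent.Lib.Compute

/-- The image of a point under the involution. -/
noncomputable def zPt (p : GolayPt) : GolayPt :=
  Compute.Mathieu.ptEquiv.symm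
    ⟨getP 8 Compute.Mathieu.m22Invol.1 (Compute.Mathieu.ptEquiv p).val % 24,
      Nat.mod_lt _ (by norm_num)⟩

theorem config_codes : codes25.all (configOk repA vecW25 0 16) = true := by decide +kernel

theorem fix_count : (codes25.filter fun c => (List.range 24).all fun i =>
    ofList c (zPt (Golay.ptN i)) == ofList c (Golay.ptN i)).length = 105 := by decide +kernel

theorem cent_check : centPairs.all (pairCheck 8 24 Compute.Mathieu.m22Chain) = true ∧
    centPairs.all (fun p => Nat.beq (mulP 8 24 p.1 Compute.Mathieu.m22Invol.1)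
      (mulP 8 24 Compute.Mathieu.m22Invol.1 p.1)) = true ∧
    (centPairs.map Prod.fst).length = 384 ∧ Compute.Mathieu.m22InvolCent.length = 384 := by
  decide +kernel

theorem cent_nodup : Orbit.Coding.keysOk (fun x : ℕ => x % 1000003)
    (centPairs.map Prod.fst) = true := by decide +kernel

theorem four_check : (pairCheck 8 24 Compute.Mathieu.m22Chain fourPair &&
    forceNat (mulP 8 24 fourPair.1 fourPair.1) (fun d =>
      !Nat.beq d (permOps 8 24).one && Nat.beq (mulP 8 24 d d) (permOps 8 24).one)) = true := by
  decide +kernel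

end Cfsg.Agent.Lib.Leech.McLTwoA
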