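import Cfsg.Agent.Lib.Leech.Config2025
import Cfsg.Agent.Lib.Leech.SporConway
import Cfsg.Agent.Lib.Leech.Co1TwoA.Action
import Cfsg.Agent.Lib.Compute.Mathieu.ClassesM22
import Cfsg.Agent.Lib.Compute.Mathieu.Outer
import Cfsg.Agent.Lib.Leech.McLTwoA.Checks

/-!
Involutions of the stabiliser of two vectors of squared length 32 with product `-8`: one class,
centralisers of order 40320, some element of order four.
-/

set_option autoImplicit false
set_option maxRecDepth 100000

namespace Cfsg.Agent.Lib.Leech.McLTwoA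

open Cfsg
open Cfsg.Agent.Lib
open Cfsg.Agent.Lib.Compute
open Cfsg.Agent.Lib.Compute.Mathieu (m22Group m22Enc m22Enc_mul m22Enc_inj m22Enc_one)
open Cfsg.Agent.Lib.Leech.Co1TwoA (monoS monoS_smul)

/-- The stabiliser of the two vectors. -/
abbrev mcl : Subgroup Co0 := pairStab baseU baseW25

theorem card_mcl : Nat.card mcl = 898128000 := by
  rw [← card_McL, Nat.card_congr mclEquiv.toEquiv, stab_McL_eq]
  have hu : Spor.leechU = baseU := Subtype.ext rfl
  have hw' : -(Spor.leechV + Spor.leechU) = baseW25 := Subtype.ext (by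
    show -(Spor.vecV + Spor.vecU) = vecW25
    decide +kernel)
  rw [hw', hu]

theorem m22_mem {σ : Equiv.Perm GolayPt} (h : σ ∈ m22Group) :
    σ ∈ M24 ∧ σ none = none ∧ σ (some 0) = some 0 := by
  have h' : σ ∈ Spor.M22 := Compute.Mathieu.m22_eq_spor ▸ h
  exact ⟨h'.1.1, h'.1.2, h'.2⟩

/-- A permutation as a lattice automorphism. -/
def permEl (σ : Equiv.Perm GolayPt) (hσ : σ ∈ M24) : Co0 := monoS σ hσ ∅ Golay.isCodeSet_empty

theorem permEl_apply (σ : Equiv.Perm GolayPt) (hσ : σ ∈ M24) (v : leechLattice) (i : GolayPt) :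
    ((permEl σ hσ • v : leechLattice) : GolayPt → ℤ) i = (v : GolayPt → ℤ) (σ.symm i) := by
  rw [permEl, monoS_smul]
  simp [signedPerm]

theorem permEl_fix {σ : Equiv.Perm GolayPt} (h : σ ∈ m22Group) {v : leechLattice}
    (hv : ∀ i j : GolayPt, i ≠ none → i ≠ some 0 → j ≠ none → j ≠ some 0 →
      (v : GolayPt → ℤ) i = (v : GolayPt → ℤ) j) : permEl σ (m22_mem h).1 • v = v := by
  obtain ⟨-, h1, h2⟩ := m22_mem h
  refine Subtype.ext (funext fun i => ?_)
  rw [permEl_apply]
  by_cases a : i = none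
  · subst a; rw [σ.symm_apply_eq.2 h1.symm]
  by_cases b : i = some 0
  · subst b; rw [σ.symm_apply_eq.2 h2.symm]
  · refine hv _ _ (fun e => a ?_) (fun e => b ?_) a b
    · rw [← σ.apply_symm_apply i, e, h1]
    · rw [← σ.apply_symm_apply i, e, h2]

theorem base_const : ∀ i j : GolayPt, i ≠ none → i ≠ some 0 → j ≠ none → j ≠ some 0 →
    repA i = repA j ∧ vecW25 i = vecW25 j ∧ vecX25 i = vecX25 j := by decide +kernel

theorem permEl_mul (σ τ : Equiv.Perm GolayPt) (hσ : σ ∈ M24) (hτ : τ ∈ M24) :
    permEl (σ * τ) (mul_mem hσ hτ) = permEl σ hσ * permEl τ hτ := by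
  refine co0_ext fun v => funext fun i => ?_
  rw [mul_smul, permEl_apply, permEl_apply, permEl_apply]
  rfl

/-- The lattice automorphism of an element of M22. -/
noncomputable def permM (σ : m22Group) : Co0 := permEl σ.1 (m22_mem σ.2).1

theorem permM_apply (σ : m22Group) (v : leechLattice) (i : GolayPt) :
    ((permM σ • v : leechLattice) : GolayPt → ℤ) i =
      (v : GolayPt → ℤ) ((σ : Equiv.Perm GolayPt).symm i) := permEl_apply _ _ v i

/-- The action of M22 on the stabiliser. -/
noncomputable def iota : m22Group →* MulAction.stabilizer mcl baseX25 :=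
  MonoidHom.mk' (fun σ => ⟨⟨permM σ,
      permEl_fix σ.2 fun i j a b c d => (base_const i j a b c d).1,
      permEl_fix σ.2 fun i j a b c d => (base_const i j a b c d).2.1⟩,
      permEl_fix σ.2 fun i j a b c d => (base_const i j a b c d).2.2⟩)
    fun σ τ => Subtype.ext <| Subtype.ext <| permEl_mul σ.1 τ.1 (m22_mem σ.2).1 (m22_mem τ.2).1

theorem iota_injective : Function.Injective iota := by
  intro σ τ h
  refine Subtype.ext (Equiv.ext fun p => ?_)
  have h' : permM σ = permM τ := congrArg (fun g => (g.1.1 : Co0)) h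
  have := congrArg (fun g : Co0 => ((g • pt8 p : leechLattice) : GolayPt → ℤ) (σ.1 p)) h'
  simp only [permM_apply, Equiv.symm_apply_apply] at this
  show σ.1 p = τ.1 p
  by_contra hne
  have hne' : τ.1.symm (σ.1 p) ≠ p := fun e => hne (by rw [← e, Equiv.apply_symm_apply, e])
  simp [pt8, vec8, hne'] at this

theorem orbit_X : MulAction.orbit mcl baseX25 = pairConfig baseU baseW25 0 16 := by
  refine Set.Subset.antisymm ?_ fun x hx => ?_
  · rintro _ ⟨g, rfl⟩
    exact pairConfig_inv g _ ⟨vec25_check.2.2.1, vec25_check.2.2.2.2.2.1, vec25_check.2.2.2.2.2.2⟩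
  · obtain ⟨g, hg⟩ := transitive25 hx
    exact ⟨g, hg⟩

theorem index_X : (MulAction.stabilizer mcl baseX25).index = 2025 := by
  rw [MulAction.index_stabilizer, orbit_X, config2025_base_ncard]

theorem card_X : Nat.card (MulAction.stabilizer mcl baseX25) = 443520 := by
  have h := (MulAction.stabilizer mcl baseX25).index_mul_card
  rw [index_X, card_mcl] at h
  omega

theorem iota_bijective : Function.Bijective iota := by
  haveI : Finite (MulAction.stabilizer mcl baseX25) :=
    Nat.finite_of_card_ne_zero (by rw [card_X]; norm_num)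
  exact iota_injective.bijective_of_nat_card_le (by
    rw [card_X, show Nat.card m22Group = _ from Compute.Mathieu.card_m22])

theorem exists_zEl : ∃ z : m22Group, m22Enc z = Compute.Mathieu.m22Invol.1 :=
  (Compute.Mathieu.m22_pairs (p := Compute.Mathieu.m22Invol) List.mem_cons_self).imp fun _ h => h.1

/-- The involution of M22. -/
noncomputable def zEl : m22Group := exists_zEl.choose

theorem zEl_enc : m22Enc zEl = Compute.Mathieu.m22Invol.1 := exists_zEl.choose_spec

theorem zEl_sq : zEl * zEl = 1 := m22Enc_inj (by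
  rw [m22Enc_mul, zEl_enc, m22Enc_one]
  have h := Compute.Mathieu.m22Cls_invol
  rw [Bool.and_eq_true] at h
  exact Nat.eq_of_beq_eq_true h.1)

theorem orderOf_zEl : orderOf zEl = 2 := orderOf_eq_prime (by rw [pow_two, zEl_sq]) fun h => by
  have h2 := Compute.Mathieu.m22Cls_invol
  rw [← zEl_enc, h, m22Enc_one] at h2
  simp at h2

/-- The same element in the stabiliser. -/
noncomputable def zG : mcl := (iota zEl).1

theorem orderOf_zG : orderOf zG = 2 := by
  rw [zG, Subgroup.orderOf_coe, orderOf_injective iota iota_injective, orderOf_zEl]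

theorem conj_zEl (x : m22Group) (hx : orderOf x = 2) : IsConj x zEl := by
  obtain ⟨z, -, h, -⟩ := Compute.Mathieu.m22_involution
  exact (h x hx).trans (h zEl orderOf_zEl).symm

theorem conj_in_stab (s : MulAction.stabilizer mcl baseX25) (hs : orderOf s = 2) :
    IsConj s (iota zEl) := by
  obtain ⟨x, rfl⟩ := iota_bijective.2 s
  rw [orderOf_injective iota iota_injective] at hs
  exact iota.map_isConj (conj_zEl x hs)

/-- One class of involutions. -/
theorem conj_zG (t : mcl) (ht : orderOf t = 2) : IsConj t zG := by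
  set S := MulAction.stabilizer mcl baseX25
  haveI : Finite (mcl ⧸ S) := Nat.finite_of_card_ne_zero (by
    rw [← Subgroup.index, index_X]; norm_num)
  haveI := Fact.mk Nat.prime_two
  have hp : IsPGroup 2 (Subgroup.zpowers t) := IsPGroup.of_card (n := 1) (by
    rw [Nat.card_zpowers, ht, pow_one])
  obtain ⟨q, hq⟩ := hp.nonempty_fixed_point_of_prime_not_dvd_card (mcl ⧸ S)
    (by rw [← Subgroup.index, index_X]; decide)
  obtain ⟨g, rfl⟩ := QuotientGroup.mk_surjective q
  have hm : g⁻¹ * (t * g) ∈ S := QuotientGroup.eq.1 ((hq ⟨t, Subgroup.mem_zpowers t⟩).symm :)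
  have hc : IsConj t (g⁻¹ * (t * g)) := isConj_iff.2 ⟨g⁻¹, by group⟩
  refine hc.trans (MonoidHom.map_isConj S.subtype (a := ⟨_, hm⟩) (conj_in_stab _ ?_))
  rw [← Subgroup.orderOf_coe]
  show orderOf (g⁻¹ * (t * g)) = 2
  obtain ⟨c, hc'⟩ := isConj_iff.1 hc
  rw [← hc', show c * t * c⁻¹ = MulAut.conj c t from rfl, MulEquiv.orderOf_eq, ht]

/-- The centraliser. -/
noncomputable def centG : Subgroup mcl := Subgroup.centralizer {zG}

theorem zEl_apply (p : GolayPt) : (zEl : Equiv.Perm GolayPt) p = zPt p := by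
  have h := permCoding_act 8 Compute.Mathieu.ptEquiv (by decide) (zEl : Equiv.Perm GolayPt) p
  have he : (permCoding 8 Compute.Mathieu.ptEquiv (by decide)).enc (zEl : Equiv.Perm GolayPt) =
      Compute.Mathieu.m22Invol.1 := zEl_enc
  rw [he] at h
  have h' : getP 8 Compute.Mathieu.m22Invol.1 (Compute.Mathieu.ptEquiv p).val =
      (Compute.Mathieu.ptEquiv ((zEl : Equiv.Perm GolayPt) p)).val := by
    rw [← h]
    show _ = actP 8 24 _ _
    rw [actP, show Nat.blt (Compute.Mathieu.ptEquiv p).val 24 = true by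
      simp [Nat.blt_eq]]
  refine Compute.Mathieu.ptEquiv.injective (Fin.ext ?_)
  rw [zPt, Equiv.apply_symm_apply]
  show _ = _ % 24
  rw [h', Nat.mod_eq_of_lt (Fin.is_lt _)]

theorem zEl_symm : (zEl : Equiv.Perm GolayPt).symm = (zEl : Equiv.Perm GolayPt) := by
  have h : ((zEl : Equiv.Perm GolayPt)) * zEl = 1 := congrArg Subtype.val zEl_sq
  exact Equiv.ext fun p => (Equiv.symm_apply_eq _).2 (Equiv.ext_iff.1 h p).symm

theorem config_eq : pairConfig baseU baseW25 0 16 = {x | ∃ c ∈ codes25, denL c = x} := by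
  symm
  refine Set.eq_of_subset_of_ncard_le ?_ ?_
    (Set.finite_of_ncard_ne_zero (by rw [config2025_base_ncard]; norm_num))
  · rintro _ ⟨c, hc, rfl⟩
    exact configOk_mem (List.all_eq_true.1 config_codes c hc)
  · have h := ncard_codes codeOk25 (List.Nodup.of_map _ (Orbit.Coding.keysOk_nodup _ _ keys25))
      (fun _ => True) (fun _ => true) (fun _ _ => by simp)
    simp only [and_true, List.filter_true] at h
    rw [config2025_base_ncard, h, checks25.2.2.1]

theorem ncard_fixed : {x : leechLattice | x ∈ pairConfig baseU baseW25 0 16 ∧ zG • x = x}.ncard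
    = 105 := by
  rw [config_eq]
  refine Eq.trans (ncard_codes codeOk25 (List.Nodup.of_map _ (Orbit.Coding.keysOk_nodup _ _ keys25))
    (fun x => zG • x = x) _ fun c hc => ?_) fix_count
  simp only [List.all_eq_true, List.mem_range, beq_iff_eq]
  constructor
  · intro h i _
    have := congrArg (fun v : leechLattice => (v : GolayPt → ℤ) (Golay.ptN i)) h
    change ((permM zEl • denL c : leechLattice) : GolayPt → ℤ) _ = _ at this
    rw [permM_apply, zEl_symm, zEl_apply, denL_coe (List.all_eq_true.1 codeOk25 c hc)] at this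
    exact this
  · intro h
    refine Subtype.ext (funext fun p => ?_)
    show ((permM zEl • denL c : leechLattice) : GolayPt → ℤ) p = _
    rw [permM_apply, zEl_symm, zEl_apply, denL_coe (List.all_eq_true.1 codeOk25 c hc)]
    have := h (Golay.idx p).val (Golay.idx p).isLt
    rwa [Golay.ptN_idx] at this

theorem orbit_centG : MulAction.orbit centG baseX25 =
    {x : leechLattice | x ∈ pairConfig baseU baseW25 0 16 ∧ zG • x = x} := by
  have hzX : zG • baseX25 = baseX25 := (iota zEl).2
  refine Set.Subset.antisymm ?_ fun x ⟨hx, hfix⟩ => ?_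
  · rintro _ ⟨g, rfl⟩
    refine ⟨by rw [← orbit_X]; exact ⟨g.1, rfl⟩, ?_⟩
    show zG • g.1 • baseX25 = g.1 • baseX25
    rw [smul_smul, ← Subgroup.mem_centralizer_singleton_iff.1 g.2, mul_smul, hzX]
  · rw [← orbit_X] at hx
    obtain ⟨g, rfl⟩ := hx
    change zG • g • baseX25 = g • baseX25 at hfix
    have hm : g⁻¹ * zG * g ∈ MulAction.stabilizer mcl baseX25 := by
      rw [MulAction.mem_stabilizer_iff, mul_smul, mul_smul, hfix, inv_smul_smul]
    obtain ⟨s, hs⟩ := isConj_iff.1 (conj_in_stab ⟨_, hm⟩ (by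
      rw [← Subgroup.orderOf_coe]
      show orderOf (g⁻¹ * zG * g) = 2
      rw [show g⁻¹ * zG * g = MulAut.conj g⁻¹ zG by simp, MulEquiv.orderOf_eq, orderOf_zG]))
    have hs' : s.1 * (g⁻¹ * zG * g) * s.1⁻¹ = zG := congrArg Subtype.val hs
    refine ⟨⟨g * s.1⁻¹, Subgroup.mem_centralizer_singleton_iff.2 ?_⟩, ?_⟩
    · conv_lhs => rw [← hs']
      group
    · show (g * s.1⁻¹) • baseX25 = g • baseX25
      rw [mul_smul, show s.1⁻¹ • baseX25 = baseX25 from (inv_smul_eq_iff).2 s.2.symm]

theorem card_cent_m22 : Nat.card (Subgroup.centralizer ({zEl} : Set m22Group)) = 384 := by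
  classical
  haveI : Finite m22Group := Nat.finite_of_card_ne_zero (by
    rw [Compute.Mathieu.card_m22]; norm_num)
  refine le_antisymm ?_ ?_
  · rw [← cent_check.2.2.2]
    refine le_trans ?_ (List.toFinset_card_le _)
    rw [← Nat.card_eq_finsetCard]
    generalize hl : Compute.Mathieu.m22InvolCent = L
    have hin : ∀ g : Subgroup.centralizer ({zEl} : Set m22Group), m22Enc g.1 ∈ L.toFinset := by
      intro g
      have h := Compute.Mathieu.m22_mem_transList
        (Subgroup.mem_centralizer_singleton_iff.1 g.2)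
      rw [zEl_enc] at h
      exact List.mem_toFinset.2 (hl ▸ h)
    refine Nat.card_le_card_of_injective (fun g => ⟨m22Enc g.1, hin g⟩) fun a b h => ?_
    simp only [Subtype.mk.injEq] at h
    exact Subtype.ext (m22Enc_inj h)
  · have hnd : (centPairs.map Prod.fst).Nodup :=
      List.Nodup.of_map _ (Orbit.Coding.keysOk_nodup _ _ cent_nodup)
    rw [← cent_check.2.2.1, ← List.toFinset_card_of_nodup hnd, ← Nat.card_eq_finsetCard]
    have key : ∀ c : ↥(centPairs.map Prod.fst).toFinset,
        ∃ g : Subgroup.centralizer ({zEl} : Set m22Group), m22Enc g.1 = c.1 := by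
      rintro ⟨c, hc⟩
      obtain ⟨p, hp, rfl⟩ := List.mem_map.1 (List.mem_toFinset.1 hc)
      obtain ⟨g, hg, -⟩ := Compute.Mathieu.m22_lift (List.all_eq_true.1 cent_check.1 p hp)
      refine ⟨⟨g, Subgroup.mem_centralizer_singleton_iff.2 (m22Enc_inj ?_)⟩, hg⟩
      rw [m22Enc_mul, m22Enc_mul, hg, zEl_enc]
      exact Nat.eq_of_beq_eq_true (List.all_eq_true.1 cent_check.2.1 p hp)
    choose f hf using key
    exact Nat.card_le_card_of_injective f fun a b h => Subtype.ext (by rw [← hf, ← hf, h])

theorem card_stab_centG : Nat.card (MulAction.stabilizer centG baseX25) = 384 := by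
  rw [← card_cent_m22]
  symm
  have hmem : ∀ σ : Subgroup.centralizer ({zEl} : Set m22Group), (iota σ.1).1 ∈ centG := by
    intro σ
    refine Subgroup.mem_centralizer_singleton_iff.2 ?_
    rw [zG, ← Subgroup.coe_mul, ← map_mul, Subgroup.mem_centralizer_singleton_iff.1 σ.2, map_mul,
      Subgroup.coe_mul]
  refine Nat.card_eq_of_bijective (fun σ => ⟨⟨(iota σ.1).1, hmem σ⟩, (iota σ.1).2⟩)
    ⟨fun a b h => Subtype.ext (iota_injective (Subtype.ext (congrArg (fun g => g.1.1) h))), ?_⟩
  rintro ⟨⟨g, hg⟩, hgX⟩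
  obtain ⟨σ, hσ⟩ := iota_bijective.2 ⟨g, hgX⟩
  refine ⟨⟨σ, Subgroup.mem_centralizer_singleton_iff.2 (iota_injective (Subtype.ext ?_))⟩, ?_⟩
  · rw [map_mul, map_mul, Subgroup.coe_mul, Subgroup.coe_mul, hσ]
    exact Subgroup.mem_centralizer_singleton_iff.1 hg
  · exact Subtype.ext (Subtype.ext (congrArg Subtype.val hσ :))

theorem card_centG : Nat.card centG = 40320 := by
  rw [← (MulAction.stabilizer centG baseX25).index_mul_card, MulAction.index_stabilizer,
    orbit_centG, ncard_fixed, card_stab_centG]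

/-- Every involution has a centraliser of that order. -/
theorem card_centralizer {t : mcl} (ht : orderOf t = 2) :
    Nat.card (Subgroup.centralizer ({t} : Set mcl)) = 40320 := by
  obtain ⟨c, hc⟩ := isConj_iff.1 (conj_zG t ht)
  rw [← card_centG]
  refine Nat.card_eq_of_bijective (fun x => ⟨MulAut.conj c x.1, ?_⟩) ⟨fun a b h =>
    Subtype.ext ((MulAut.conj c).injective (congrArg Subtype.val h)), ?_⟩
  · refine Subgroup.mem_centralizer_singleton_iff.2 ?_
    rw [← hc, show c * t * c⁻¹ = MulAut.conj c t from rfl, ← map_mul, ← map_mul,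
      Subgroup.mem_centralizer_singleton_iff.1 x.2]
  · rintro ⟨y, hy⟩
    refine ⟨⟨(MulAut.conj c).symm y, Subgroup.mem_centralizer_singleton_iff.2
      ((MulAut.conj c).injective ?_)⟩, Subtype.ext ((MulAut.conj c).apply_symm_apply y)⟩
    rw [map_mul, map_mul, MulEquiv.apply_symm_apply, show MulAut.conj c t = zG from hc]
    exact Subgroup.mem_centralizer_singleton_iff.1 hy

/-- Some involution is a square. -/
theorem exists_square : ∃ x : mcl, orderOf (x * x) = 2 := by
  have h := four_check
  rw [forceNat_eq] at h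
  simp only [Bool.and_eq_true, Bool.not_eq_true'] at h
  obtain ⟨hp, hne, hsq⟩ := h
  obtain ⟨g, hg, -⟩ := Compute.Mathieu.m22_lift hp
  refine ⟨(iota g).1, ?_⟩
  rw [← Subgroup.coe_mul, ← map_mul, Subgroup.orderOf_coe, orderOf_injective iota iota_injective]
  refine orderOf_eq_prime (m22Enc_inj ?_) fun e => ?_
  · rw [pow_two, m22Enc_mul, m22Enc_mul, hg, m22Enc_one]
    exact Nat.eq_of_beq_eq_true hsq
  · rw [← hg, ← m22Enc_mul, e, m22Enc_one] at hne
    simp at hne

end Cfsg.Agent.Lib.Leech.McLTwoA
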