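import Cfsg.Agent.Lib.Leech.Co1TwoA.Count
import Cfsg.Agent.Lib.Leech.Co1TwoA.Main
import Cfsg.Agent.Lib.Leech.Config2025
import Cfsg.Agent.Lib.Leech.McLTwoA.Data
import Mathlib.LinearAlgebra.Matrix.Transvection

/-!
The stabiliser of two vectors off the octad inside the centraliser of the octad sign change: two
explicit elements, their action on an invariant four-space of the octad space, and surjectivity onto
`SL₄(2)`.
-/

set_option autoImplicit false
set_option maxRecDepth 100000

namespace Cfsg.Agent.Lib.Leech.McLTwoA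

open Cfsg
open Cfsg.Agent.Lib
open Cfsg.Agent.Lib.Leech.Co1TwoA
open scoped Matrix

/-- `2` on the disjoint octad. -/
def uVec : GolayPt → ℤ := fun i => if i ∈ Golay.ptsOf octMask' then 2 else 0

/-- `-4` at a point of it and at a point outside both octads. -/
def wVec : GolayPt → ℤ := fun i => if i = some 0 ∨ i = some 1 then -4 else 0

theorem frame_check : leechChk uVec = true ∧ leechChk wVec = true ∧ sqNorm uVec = 32 ∧
    sqNorm wVec = 32 ∧ dotInt uVec wVec = -8 ∧
    ∀ i, i ∈ octO → uVec i = 0 ∧ wVec i = 0 := by decide +kernel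

/-- The first vector. -/
def uPt : leechLattice := ⟨uVec, leechChk_sound frame_check.1⟩

/-- The second vector. -/
def wPt : leechLattice := ⟨wVec, leechChk_sound frame_check.2.1⟩

/-- Their stabiliser. -/
abbrev pairG : Subgroup Co0 := pairStab uPt wPt

/-- Their stabiliser in the centraliser of the sign change. -/
abbrev pairC : Subgroup stab := pairG.subgroupOf stab

theorem zCo_mem : zCo ∈ pairG := by
  have key : ∀ (x : GolayPt → ℤ) (hx : x ∈ leechLattice), (∀ i, i ∈ octO → x i = 0) →
      zCo • (⟨x, hx⟩ : leechLattice) = ⟨x, hx⟩ := by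
    intro x hx h
    refine Subtype.ext (funext fun i => ?_)
    rw [zCo_smul_apply]
    split <;> rename_i hi
    · simp [h i hi]
    · rfl
  exact ⟨key _ _ fun i hi => (frame_check.2.2.2.2.2 i hi).1,
    key _ _ fun i hi => (frame_check.2.2.2.2.2 i hi).2⟩

/-- The inverse image of a point under a listed permutation. -/
def unPt (l : List ℕ) (i : GolayPt) : GolayPt :=
  Golay.pt ⟨(List.findIdx (fun a => a == (Golay.idx i).val) l) % 24, Nat.mod_lt _ (by norm_num)⟩

/-- A signed permutation given by a list and a mask. -/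
def monoFun (l : List ℕ) (m : ℕ) (x : GolayPt → ℤ) : GolayPt → ℤ :=
  flipSign (Golay.ptsOf m) fun i => x (unPt l i)

/-- The map of a generator. -/
def gFun (d : List ℕ × ℕ × List ℕ × ℕ) (x : GolayPt → ℤ) : GolayPt → ℤ :=
  monoFun d.1 d.2.1 (xiMap (monoFun d.2.2.1 d.2.2.2 x))

/-- The check on the pieces. -/
def monoOk (l : List ℕ) (m : ℕ) : Bool :=
  Golay.inM24 l && Golay.isCodeMask m && Golay.imageMask l octMask == octMask &&
    (List.range 24).all fun i => Golay.applyNum l ((List.findIdx (fun a => a == i) l) % 24) == i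

theorem exists_mono {l : List ℕ} {m : ℕ} (h : monoOk l m = true) :
    ∃ g : stab, ∀ v : leechLattice,
      (((g : Co0) • v : leechLattice) : GolayPt → ℤ) = monoFun l m v := by
  simp only [monoOk, Bool.and_eq_true, beq_iff_eq, List.all_eq_true, List.mem_range] at h
  obtain ⟨⟨⟨hl, hm⟩, ho⟩, hi⟩ := h
  refine ⟨⟨monoS _ (Golay.toPerm_mem_M24 hl) _ (Golay.isCodeSet_of_isCodeMask hm),
    monoS_mem_stab_iff.2 (by rw [octO, Golay.toPerm_smul_ptsOf (Golay.inM24.valid hl), ho])⟩,
    fun v => ?_⟩
  rw [monoS_smul]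
  have hs : ∀ i, (Golay.toPerm l).symm i = unPt l i := by
    intro i
    rw [Equiv.symm_apply_eq]
    refine Golay.ptEquiv.injective (Fin.ext ?_)
    show (Golay.idx i).val = (Golay.idx _).val
    rw [Golay.idx_toPerm (Golay.inM24.valid hl), unPt, Golay.idx_pt]
    exact (hi _ (Golay.idx i).isLt).symm
  funext i
  simp only [signedPerm, monoFun, flipSign, hs]

/-- The two pieces. -/
def gData (k : ℕ) : List ℕ × ℕ × List ℕ × ℕ := if k = 0 then piece0 else piece1

theorem gData_check : ∀ k : Fin 2,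
    monoOk (gData k.val).1 (gData k.val).2.1 = true ∧
    monoOk (gData k.val).2.2.1 (gData k.val).2.2.2 = true ∧
    gFun (gData k.val) uVec = uVec ∧ gFun (gData k.val) wVec = wVec := by decide +kernel

theorem exists_gEl (k : Fin 2) : ∃ g : pairC, ∀ v : leechLattice,
    (((g.1 : Co0) • v : leechLattice) : GolayPt → ℤ) = gFun (gData k.val) v := by
  obtain ⟨h1, h2, hu, hw⟩ := gData_check k
  obtain ⟨a, ha⟩ := exists_mono h1
  obtain ⟨b, hb⟩ := exists_mono h2
  have hg : ∀ v : leechLattice,
      ((((a * ⟨xiCo, xiCo_mem_stab⟩ * b : stab) : Co0) • v : leechLattice) : GolayPt → ℤ) =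
        gFun (gData k.val) v := by
    intro v
    show ((((a : Co0) * xiCo * (b : Co0)) • v : leechLattice) : GolayPt → ℤ) = _
    rw [mul_smul, mul_smul, ha, xiCo_smul, hb]
    rfl
  obtain ⟨x, hx⟩ : ∃ x : stab, ∀ v : leechLattice,
      (((x : Co0) • v : leechLattice) : GolayPt → ℤ) = gFun (gData k.val) v := ⟨_, hg⟩
  have hm : x ∈ pairC := Subgroup.mem_subgroupOf.2
    ⟨Subtype.ext ((hx uPt).trans hu), Subtype.ext ((hx wPt).trans hw)⟩
  exact ⟨⟨x, hm⟩, hx⟩

/-- A generator. -/
noncomputable def gEl (k : Fin 2) : pairC := (exists_gEl k).choose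

theorem gEl_spec (k : Fin 2) (v : leechLattice) :
    ((((gEl k).1 : Co0) • v : leechLattice) : GolayPt → ℤ) = gFun (gData k.val) v :=
  (exists_gEl k).choose_spec v

/-- The basis of the invariant space as columns. -/
def eMat : Matrix (Fin 4 ⊕ Fin 4) (Fin 4) (ZMod 2) :=
  Matrix.of fun k j => vecOfMask (eMask.getD j.val 0) k

/-- The coordinate functionals as rows. -/
def dMat : Matrix (Fin 4) (Fin 4 ⊕ Fin 4) (ZMod 2) :=
  Matrix.of fun i k => vecOfMask (fMask.getD i.val 0) k.swap

/-- The induced matrix. -/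
def piMat (g : stab) : Matrix (Fin 4) (Fin 4) (ZMod 2) := dMat * actMat g * eMat

/-- Preserving the four-space. -/
def Pres (g : stab) : Prop := actMat g * eMat = eMat * piMat g

theorem dMat_eMat : dMat * eMat = 1 := by decide +kernel

theorem piMat_one : piMat 1 = 1 := by rw [piMat, actMat_one, Matrix.mul_one, dMat_eMat]

theorem piMat_mul {g h : stab} (hh : Pres h) : piMat (g * h) = piMat g * piMat h := by
  have e : actMat h * eMat = eMat * piMat h := hh
  calc piMat (g * h) = dMat * actMat g * (actMat h * eMat) := by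
        rw [piMat, actMat_mul]; simp only [Matrix.mul_assoc]
    _ = dMat * actMat g * (eMat * piMat h) := by rw [e]
    _ = piMat g * piMat h := by rw [← Matrix.mul_assoc]; rfl

theorem Pres.mul {g h : stab} (hg : Pres g) (hh : Pres h) : Pres (g * h) := by
  have e : actMat g * eMat = eMat * piMat g := hg
  have e' : actMat h * eMat = eMat * piMat h := hh
  show _ = _
  rw [piMat_mul hh, actMat_mul, Matrix.mul_assoc, e', ← Matrix.mul_assoc, e, Matrix.mul_assoc]

/-- The preserving elements of the pair stabiliser. -/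
def presSub : Submonoid pairC where
  carrier := {g | Pres g.1}
  one_mem' := by
    show _ = _
    rw [Subgroup.coe_one, piMat_one, actMat_one, Matrix.one_mul, Matrix.mul_one]
  mul_mem' ha hb := ha.mul hb

/-- The matrix of a generator by explicit maps. -/
def gMat (k : Fin 2) : Matrix (Fin 4 ⊕ Fin 4) (Fin 4 ⊕ Fin 4) (ZMod 2) :=
  Matrix.of fun i j => phiVec (gFun (gData k.val) (rep (liftA (Pi.single j 1)))) i

theorem actMat_gEl (k : Fin 2) : actMat (gEl k).1 = gMat k := by
  ext i j
  show phiVec ((((gEl k).1 : Co0) • (liftV (Pi.single j 1)).1 : leechLattice) : GolayPt → ℤ) i = _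
  rw [gEl_spec, liftV, coe_repPt]
  rfl

theorem gMat_pres : ∀ k : Fin 2, gMat k * eMat = eMat * (dMat * gMat k * eMat) := by decide +kernel

theorem gEl_mem (k : Fin 2) : gEl k ∈ presSub := by
  show _ = _
  rw [piMat, actMat_gEl]
  exact gMat_pres k

/-- An element from a word. -/
noncomputable def wordOf (w : List ℕ) : pairC :=
  (w.map fun k => gEl ⟨k % 2, Nat.mod_lt _ (by norm_num)⟩).prod

/-- The matrix of a word. -/
def wordMat (w : List ℕ) : Matrix (Fin 4) (Fin 4) (ZMod 2) :=
  (w.map fun k => dMat * gMat ⟨k % 2, Nat.mod_lt _ (by norm_num)⟩ * eMat).prod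

theorem wordOf_spec : ∀ w : List ℕ, wordOf w ∈ presSub ∧ piMat (wordOf w).1 = wordMat w
  | [] => ⟨one_mem _, piMat_one⟩
  | k :: w => by
    obtain ⟨h1, h2⟩ := wordOf_spec w
    refine ⟨mul_mem (gEl_mem _) h1, ?_⟩
    show piMat ((gEl _).1 * (wordOf w).1) = _
    rw [piMat_mul h1, h2, piMat, actMat_gEl]
    rfl

theorem trans_table : ∀ i j : Fin 4, i ≠ j →
    wordMat (transWords.getD (4 * i.val + j.val) []) = Matrix.transvection i j 1 := by decide +kernel

theorem zmod2_ne_zero : ∀ x : ZMod 2, x ≠ 0 → x = 1 := by decide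

/-- Every invertible matrix is attained. -/
theorem exists_piMat (A : Matrix (Fin 4) (Fin 4) (ZMod 2)) (hA : A.det ≠ 0) :
    ∃ g ∈ presSub, piMat g.1 = A := by
  refine Matrix.diagonal_transvection_induction_of_det_ne_zero
    (fun B => ∃ g ∈ presSub, piMat g.1 = B) A hA (fun D hD => ?_) (fun t => ?_)
    (fun B C _ _ hB hC => ?_)
  · refine ⟨1, one_mem _, piMat_one.trans ?_⟩
    rw [Matrix.det_diagonal, Finset.prod_ne_zero_iff] at hD
    rw [show D = fun _ => 1 from funext fun i => zmod2_ne_zero _ (hD i (Finset.mem_univ i)),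
      Matrix.diagonal_one]
  · rcases (by decide : ∀ x : ZMod 2, x = 0 ∨ x = 1) t.c with hc | hc
    · refine ⟨1, one_mem _, piMat_one.trans ?_⟩
      rw [Matrix.TransvectionStruct.toMatrix, hc, Matrix.transvection_zero]
    · refine ⟨wordOf (transWords.getD (4 * t.i.val + t.j.val) []), (wordOf_spec _).1,
        (wordOf_spec _).2.trans ?_⟩
      rw [Matrix.TransvectionStruct.toMatrix, hc]
      exact trans_table t.i t.j t.hij
  · obtain ⟨a, ha, ha'⟩ := hB
    obtain ⟨b, hb, hb'⟩ := hC
    exact ⟨a * b, mul_mem ha hb, by rw [Subgroup.coe_mul, piMat_mul hb, ha', hb']⟩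

theorem actMat_zCo (h : zCo ∈ stab) : actMat (⟨zCo, h⟩ : stab) = 1 := by
  ext i j
  show phi (actV (⟨zCo, h⟩ : stab) (liftV (Pi.single j 1))) i = _
  rw [show actV (⟨zCo, h⟩ : stab) (liftV (Pi.single j 1)) = -(liftV (Pi.single j 1)) from
    Subtype.ext (Subtype.ext (funext fun p => by
      show ((zCo • (liftV (Pi.single j 1)).1 : leechLattice) : GolayPt → ℤ) p = _
      rw [zCo_smul_apply]
      split <;> rename_i hp
      · rfl
      · show _ = -(((liftV (Pi.single j 1)).1 : GolayPt → ℤ) p)
        rw [(liftV (Pi.single j 1)).2 p hp, neg_zero])), phi_neg, phi_liftV]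
  simp [Matrix.one_apply, Pi.single_apply]

theorem piMat_zCo (h : zCo ∈ stab) : piMat ⟨zCo, h⟩ = 1 := by
  rw [piMat, actMat_zCo h, Matrix.mul_one, dMat_eMat]

end Cfsg.Agent.Lib.Leech.McLTwoA
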