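import Cfsg.Agent.Lib.Leech.McLTwoA.Frame
import Cfsg.Agent.Lib.Leech.McLTwoA.Octad
import Cfsg.Agent.S0256
import Cfsg.Prelude.Def_SporadicB

/-!
The McLaughlin group: one class of involutions, with centraliser a non-split double cover of `A₈`.
-/

set_option autoImplicit false

namespace Cfsg.Agent.Lib.Leech.McLTwoA

open Cfsg
open Cfsg.Agent.Lib
open Cfsg.Agent.Lib.Leech.Co1TwoA

local notation "SL4" => Matrix.SpecialLinearGroup (Fin 4) (ZMod 2)

theorem card_sl4 : Nat.card SL4 = 20160 := by
  have h := Lib.LinGroup.card_SL_mul (F := ZMod 2) 4 (by norm_num)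
  rw [ZMod.card, Fin.prod_univ_four] at h
  norm_num [-Nat.card_eq_fintype_card] at h
  omega

/-- Centralisers correspond under an isomorphism. -/
def centEquiv {G H : Type*} [Group G] [Group H] (e : G ≃* H) (t : G) :
    Subgroup.centralizer ({t} : Set G) ≃* Subgroup.centralizer ({e t} : Set H) where
  toFun x := ⟨e x.1, Subgroup.mem_centralizer_singleton_iff.2 (by
    rw [← map_mul, ← map_mul, Subgroup.mem_centralizer_singleton_iff.1 x.2])⟩
  invFun y := ⟨e.symm y.1, Subgroup.mem_centralizer_singleton_iff.2 (e.injective (by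
    rw [map_mul, map_mul, e.apply_symm_apply, Subgroup.mem_centralizer_singleton_iff.1 y.2]))⟩
  left_inv x := Subtype.ext (e.symm_apply_apply x.1)
  right_inv y := Subtype.ext (e.apply_symm_apply y.1)
  map_mul' x y := Subtype.ext (map_mul e x.1 y.1)

theorem exists_frame : ∃ g : Co0, g • baseU = uPt ∧ g • baseW25 = wPt :=
  exists_mcl25_frame frame_check.2.2.1 frame_check.2.2.2.1 frame_check.2.2.2.2.1

/-- The element carrying one frame to the other. -/
noncomputable def frameElt : Co0 := exists_frame.choose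

theorem frameElt_spec : frameElt • baseU = uPt ∧ frameElt • baseW25 = wPt :=
  exists_frame.choose_spec

theorem conj_mem_of {a g h : Co0} {u v : leechLattice} (hu : g • u = v) (hh : h • u = u)
    (e : a = g * h * g⁻¹) : a • v = v := by
  rw [e, mul_smul, mul_smul, ← hu, inv_smul_smul, hh]

/-- Conjugation between the two stabilisers. -/
noncomputable def frameEquiv : mcl ≃* pairG where
  toFun h := ⟨frameElt * h.1 * frameElt⁻¹, Subgroup.mem_inf.2
    ⟨conj_mem_of frameElt_spec.1 h.2.1 rfl, conj_mem_of frameElt_spec.2 h.2.2 rfl⟩⟩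
  invFun h := ⟨frameElt⁻¹ * h.1 * frameElt, Subgroup.mem_inf.2
    ⟨conj_mem_of (inv_smul_eq_iff.2 frameElt_spec.1.symm) h.2.1 (by rw [inv_inv]),
      conj_mem_of (inv_smul_eq_iff.2 frameElt_spec.2.symm) h.2.2 (by rw [inv_inv])⟩⟩
  left_inv h := Subtype.ext (show frameElt⁻¹ * (frameElt * h.1 * frameElt⁻¹) * frameElt = h.1 by group)
  right_inv h := Subtype.ext (show frameElt * (frameElt⁻¹ * h.1 * frameElt) * frameElt⁻¹ = h.1 by group)
  map_mul' a b := Subtype.ext (show frameElt * (a.1 * b.1) * frameElt⁻¹ =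
    frameElt * a.1 * frameElt⁻¹ * (frameElt * b.1 * frameElt⁻¹) by group)

/-- The involution. -/
def tG : pairG := ⟨zCo, zCo_mem⟩

theorem zCo_sq : zCo * zCo = 1 := by
  refine co0_ext fun v => funext fun i => ?_
  rw [mul_smul, zCo_smul_apply, zCo_smul_apply, one_smul]
  split <;> simp

theorem zCo_ne_one : zCo ≠ 1 := by
  intro h
  have := congrArg (fun g : Co0 =>
    ((g • pt8 (oPt 0) : leechLattice) : GolayPt → ℤ) (oPt 0)) h
  simp only [zCo_smul_apply, one_smul, if_pos (oPt_facts.1 0)] at this
  simp [pt8, vec8] at this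

theorem orderOf_tG : orderOf tG = 2 :=
  orderOf_eq_prime (by rw [pow_two]; exact Subtype.ext zCo_sq)
    fun h => zCo_ne_one (congrArg Subtype.val h)

/-- The centraliser as a subgroup of the centraliser in `Co0`. -/
def centPairC : Subgroup.centralizer ({tG} : Set pairG) ≃* pairC where
  toFun c := ⟨⟨c.1.1, mem_stab_iff.2
    (congrArg Subtype.val (Subgroup.mem_centralizer_singleton_iff.1 c.2))⟩, c.1.2⟩
  invFun c := ⟨⟨c.1.1, c.2⟩, Subgroup.mem_centralizer_singleton_iff.2
    (Subtype.ext (mem_stab_iff.1 c.1.2))⟩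
  left_inv _ := rfl
  right_inv _ := rfl
  map_mul' _ _ := rfl

theorem card_pairC : Nat.card pairC = 40320 := by
  rw [← Nat.card_congr centPairC.toEquiv]
  have h := card_centralizer (t := frameEquiv.symm tG) (by
    rw [MulEquiv.orderOf_eq, orderOf_tG])
  rw [Nat.card_congr (centEquiv frameEquiv _).toEquiv, MulEquiv.apply_symm_apply] at h
  exact h

theorem zCo_mem_stab : zCo ∈ stab := mem_stab_iff.2 rfl

theorem det_piMat {g : pairC} (hg : g ∈ presSub) (hg' : g⁻¹ ∈ presSub) :
    (piMat g.1).det = 1 := by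
  have h := congrArg Matrix.det ((piMat_mul (g := g.1⁻¹) (h := g.1) hg).symm.trans
    ((congrArg piMat (inv_mul_cancel g.1)).trans piMat_one))
  rw [Matrix.det_mul, Matrix.det_one] at h
  exact zmod2_ne_zero _ (right_ne_zero_of_mul_eq_one h)

theorem finite_pairC : Finite pairC := Nat.finite_of_card_ne_zero (by rw [card_pairC]; norm_num)

theorem inv_mem_pres {g : pairC} (hg : g ∈ presSub) : g⁻¹ ∈ presSub := by
  haveI := finite_pairC
  rw [show g⁻¹ = g ^ (orderOf g - 1) from (eq_inv_of_mul_eq_one_left (by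
    rw [← pow_succ, Nat.sub_add_cancel (orderOf_pos g), pow_orderOf_eq_one])).symm]
  exact pow_mem hg _

/-- The preserving elements as a subgroup. -/
noncomputable def presGroup : Subgroup pairC := { presSub with inv_mem' := inv_mem_pres }

/-- The map on the preserving elements. -/
noncomputable def presHom : presGroup →* SL4 :=
  MonoidHom.mk' (fun g => ⟨piMat g.1.1, det_piMat g.2 (inv_mem_pres g.2)⟩)
    fun a b => Subtype.ext (piMat_mul b.2)

theorem presHom_surjective : Function.Surjective presHom := by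
  intro A
  obtain ⟨g, hg, he⟩ := exists_piMat A.1 (by rw [A.2]; exact one_ne_zero)
  exact ⟨⟨g, hg⟩, Subtype.ext he⟩

/-- The involution in the pair stabiliser. -/
def tC : pairC := ⟨⟨zCo, zCo_mem_stab⟩, zCo_mem⟩

theorem tC_ne_one : tC ≠ 1 := fun h => zCo_ne_one (congrArg (fun g : pairC => (g.1 : Co0)) h)

theorem tC_mem : tC ∈ presGroup := by
  show actMat (⟨zCo, zCo_mem_stab⟩ : stab) * eMat = eMat * piMat ⟨zCo, zCo_mem_stab⟩
  rw [actMat_zCo, piMat_zCo, Matrix.one_mul, Matrix.mul_one]

theorem presGroup_eq_top : presGroup = ⊤ := by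
  haveI := finite_pairC
  refine Subgroup.eq_top_of_card_eq _ (le_antisymm (Subgroup.card_le_card_group _) ?_)
  rw [card_pairC]
  have h1 : presHom.ker.index * Nat.card presHom.ker = Nat.card presGroup :=
    presHom.ker.index_mul_card
  rw [Subgroup.index_ker, Nat.card_congr
    (Subgroup.topEquiv.toEquiv.symm.trans
      (MulEquiv.subgroupCongr (MonoidHom.range_eq_top.2 presHom_surjective)).symm.toEquiv).symm,
    card_sl4] at h1
  have h2 : 2 ≤ Nat.card presHom.ker := by
    rcases Nat.lt_or_ge (Nat.card presHom.ker) 2 with h | h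
    · exfalso
      have hb : presHom.ker = ⊥ := Subgroup.eq_bot_of_card_le _ (by omega)
      have : (⟨tC, tC_mem⟩ : presGroup) ∈ presHom.ker :=
        MonoidHom.mem_ker.2 (Subtype.ext (piMat_zCo zCo_mem_stab))
      rw [hb, Subgroup.mem_bot] at this
      exact tC_ne_one (congrArg Subtype.val this)
    · exact h
  nlinarith

/-- The map on the whole pair stabiliser. -/
noncomputable def slHom : pairC →* SL4 :=
  presHom.comp (MonoidHom.codRestrict (MonoidHom.id pairC) presGroup fun g => by
    rw [presGroup_eq_top]; exact Subgroup.mem_top _)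

theorem slHom_surjective : Function.Surjective slHom := fun A =>
  let ⟨g, hg⟩ := presHom_surjective A
  ⟨g.1, hg⟩

/-- A group of twice the order of a centreless image, with an involution in the kernel that is a
square, is a non-split double cover. -/
theorem nonsplit_of_hom {C A : Type*} [Group C] [Group A] [Finite C] (f : C →* A)
    (hf : Function.Surjective f) (hA : Subgroup.center A = ⊥) (hc : Nat.card C = 2 * Nat.card A)
    {t : C} (ht : t ∈ f.ker) (ht1 : t ≠ 1) (htc : t ∈ Subgroup.center C)
    (hsq : ∃ y : C, y * y = t) : IsNonsplitDoubleCover C A := by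
  haveI : Finite A := Finite.of_surjective f hf
  have hk : Nat.card f.ker = 2 := by
    have h := f.ker.index_mul_card
    rw [Subgroup.index_ker, MonoidHom.range_eq_top.2 hf, Subgroup.card_top, hc] at h
    have : 0 < Nat.card A := Nat.card_pos
    nlinarith
  have hz : Subgroup.center C = f.ker := by
    refine le_antisymm (fun z hz => ?_) fun k hk' => ?_
    · rw [MonoidHom.mem_ker, ← Subgroup.mem_bot, ← hA, Subgroup.mem_center_iff]
      intro a
      obtain ⟨c, rfl⟩ := hf a
      rw [← map_mul, ← map_mul, Subgroup.mem_center_iff.1 hz c]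
    · by_cases h1 : k = 1
      · subst h1; exact one_mem _
      · obtain ⟨a, -, ha⟩ := (Nat.card_eq_two_iff' (1 : f.ker)).1 hk |>.exists.elim
          (fun a ha => (⟨a, ha, fun b hb => ((Nat.card_eq_two_iff' (1 : f.ker)).1 hk).unique hb ha⟩ :
            ∃ a : f.ker, a ≠ 1 ∧ ∀ b : f.ker, b ≠ 1 → b = a))
        have e1 := ha ⟨k, hk'⟩ fun e => h1 (congrArg Subtype.val e)
        have e2 := ha ⟨t, ht⟩ fun e => ht1 (congrArg Subtype.val e)
        rw [show k = t from congrArg Subtype.val (e1.trans e2.symm)]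
        exact htc
  refine ⟨hz ▸ hk, ⟨(QuotientGroup.quotientMulEquivOfEq hz).trans
    (QuotientGroup.quotientKerEquivOfSurjective f hf)⟩, fun L hL => ?_⟩
  obtain ⟨y, hy⟩ := hsq
  obtain ⟨⟨z, l⟩, hzl : (z : C) * l = y⟩ := hL.2 y
  have hz2 : (z : C) * z = 1 := by
    have h2 : Nat.card (Subgroup.center C) = 2 := hz ▸ hk
    have h : z ^ 2 = 1 := h2 ▸ (pow_card_eq_one' (x := z) : z ^ Nat.card (Subgroup.center C) = 1)
    rw [pow_two] at h
    exact congrArg Subtype.val h
  have hl : t ∈ L := by
    have hcomm : (l : C) * z = z * l := Subgroup.mem_center_iff.1 z.2 l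
    rw [← hy, ← hzl, show (z : C) * l * (z * l) = z * (l * z) * l by group, hcomm,
      show (z : C) * (z * l) * l = z * z * (l * l) by group, hz2, one_mul]
    exact mul_mem l.2 l.2
  refine ht1 ?_
  have := hL.1 (a₁ := (⟨t, htc⟩, 1)) (a₂ := (1, ⟨t, hl⟩)) (by simp)
  exact congrArg (fun p : Subgroup.center C × L => (p.1 : C)) this

theorem tC_central : tC ∈ Subgroup.center pairC :=
  Subgroup.mem_center_iff.2 fun g => Subtype.ext (Subtype.ext (mem_stab_iff.1 g.1.2))

/-- The McLaughlin group as the stabiliser in the second frame. -/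
noncomputable def mclFrame : Spor.McL ≃* pairG :=
  (mclEquiv.trans (MulEquiv.subgroupCongr (stab_McL_eq.trans (by
    rw [show -(Spor.leechV + Spor.leechU) = baseW25 from Subtype.ext (by
        show -(Spor.vecV + Spor.vecU) = vecW25
        decide +kernel), show Spor.leechU = baseU from Subtype.ext rfl])))).trans frameEquiv

theorem conj_pairG (x y : pairG) (hx : orderOf x = 2) (hy : orderOf y = 2) : IsConj x y := by
  have h1 := conj_zG (frameEquiv.symm x) (by rw [MulEquiv.orderOf_eq, hx])
  have h2 := conj_zG (frameEquiv.symm y) (by rw [MulEquiv.orderOf_eq, hy])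
  simpa using frameEquiv.toMonoidHom.map_isConj (h1.trans h2.symm)

theorem tG_square : ∃ y : Subgroup.centralizer ({tG} : Set pairG), (y.1 : pairG) * y.1 = tG := by
  obtain ⟨x, hx⟩ := exists_square
  obtain ⟨c, hc⟩ := isConj_iff.1 (conj_pairG (frameEquiv (x * x)) tG
    (by rw [MulEquiv.orderOf_eq, hx]) orderOf_tG)
  rw [map_mul] at hc
  have e : c * frameEquiv x * c⁻¹ * (c * frameEquiv x * c⁻¹) = tG := by rw [← hc]; group
  refine ⟨⟨c * frameEquiv x * c⁻¹, Subgroup.mem_centralizer_singleton_iff.2 ?_⟩, e⟩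
  rw [← e]
  group

theorem main : (∀ x y : ↥Spor.McL, orderOf x = 2 → orderOf y = 2 → IsConj x y) ∧
    ∃ t : ↥Spor.McL, orderOf t = 2 ∧
      IsNonsplitDoubleCover ↥(Subgroup.centralizer ({t} : Set ↥Spor.McL))
        ↥(alternatingGroup (Fin 8)) := by
  refine ⟨fun x y hx hy => ?_, mclFrame.symm tG, by rw [MulEquiv.orderOf_eq, orderOf_tG], ?_⟩
  · have h := conj_pairG (mclFrame x) (mclFrame y) (by rw [MulEquiv.orderOf_eq, hx])
      (by rw [MulEquiv.orderOf_eq, hy])
    simpa using mclFrame.symm.toMonoidHom.map_isConj h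
  obtain ⟨e8⟩ := S0256.nonempty_equiv_zmod
  haveI := finite_pairC
  let ce := centEquiv mclFrame.symm tG
  let f : Subgroup.centralizer ({mclFrame.symm tG} : Set ↥Spor.McL) →* alternatingGroup (Fin 8) :=
    e8.toMonoidHom.comp (slHom.comp (ce.symm.trans centPairC).toMonoidHom)
  haveI : Finite (Subgroup.centralizer ({mclFrame.symm tG} : Set ↥Spor.McL)) :=
    Finite.of_equiv _ (centPairC.symm.trans ce).toEquiv
  obtain ⟨y, hy⟩ := tG_square
  refine nonsplit_of_hom f (e8.surjective.comp (slHom_surjective.comp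
    (ce.symm.trans centPairC).surjective)) ?_ ?_ (t := (centPairC.symm.trans ce) tC) ?_ ?_ ?_
    ⟨ce y, ?_⟩
  · haveI : IsSimpleGroup (alternatingGroup (Fin 8)) := alternatingGroup.isSimpleGroup (by simp)
    refine ((Subgroup.center (alternatingGroup (Fin 8))).normal_of_characteristic.eq_bot_or_eq_top
      ).resolve_right fun h => ?_
    have ha : ∀ a b : SL4, a * b = b * a := fun a b => e8.injective (by
      rw [map_mul, map_mul]
      exact (Subgroup.mem_center_iff.1 (h ▸ Subgroup.mem_top (e8 b)) (e8 a)))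
    have hb : (⊤ : Subgroup SL4) ≤ Subgroup.center SL4 := fun a _ =>
      Subgroup.mem_center_iff.2 fun b => ha b a
    rw [S0256.center_eq_bot] at hb
    have := Subgroup.card_top (G := SL4)
    rw [eq_bot_iff.2 hb, Subgroup.card_bot, card_sl4] at this
    norm_num at this
  · rw [← Nat.card_congr (centPairC.symm.trans ce).toEquiv, card_pairC,
      ← Nat.card_congr e8.toEquiv, card_sl4]
  · rw [MonoidHom.mem_ker]
    show e8 (slHom ((ce.symm.trans centPairC) ((centPairC.symm.trans ce) tC))) = 1
    simp only [MulEquiv.trans_apply, MulEquiv.symm_apply_apply, MulEquiv.apply_symm_apply]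
    rw [show slHom tC = 1 from Subtype.ext (piMat_zCo zCo_mem_stab), map_one]
  · intro h
    exact tC_ne_one ((centPairC.symm.trans ce).injective (h.trans (map_one _).symm))
  · refine Subgroup.mem_center_iff.2 fun g => ?_
    obtain ⟨g, rfl⟩ := (centPairC.symm.trans ce).surjective g
    rw [← map_mul, ← map_mul, Subgroup.mem_center_iff.1 tC_central g]
  · rw [← map_mul]
    show ce (y * y) = ce (centPairC.symm tC)
    exact congrArg ce (Subtype.ext hy)

end Cfsg.Agent.Lib.Leech.McLTwoA
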